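import Groth.Agent.L04.RegRes.Unit
import Groth.Agent.L29.DCoh.QCohOps
import Groth.Agent.L16.QcqsPush
import Mathlib.CategoryTheory.Abelian.Projective.Resolution

/-!
The resolution of a regular quasi-coherent module on `ℙⁿ_T` by twisted pullbacks from the base.
-/

set_option autoImplicit false
set_option backward.defeqAttrib.useBackward true
set_option backward.isDefEq.respectTransparency false
set_option backward.isDefEq.respectTransparency.types false
set_option linter.style.haveILetI false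
universe v u

open CategoryTheory CategoryTheory.Limits AlgebraicGeometry

noncomputable section

namespace Groth.L04.RegRes

section Abstract

variable {C : Type u} [Category.{v} C] [Abelian C]

/-- Left resolutions by objects of a class depending on the degree. -/
theorem exists_res (P S : ℕ → C → Prop)
    (h : ∀ i M, S i M → ∃ (Q : C) (p : Q ⟶ M), P i Q ∧ Epi p ∧ S (i + 1) (kernel p))
    (Z : C) (hZ : S 0 Z) :
    ∃ (K : ChainComplex C ℕ) (π : K ⟶ (ChainComplex.single₀ C).obj Z), QuasiIso π ∧ ∀ n, P n (K.X n) := by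
  choose Q p hP hp hS using h
  let M : ∀ n : ℕ, {M : C // S n M} :=
    fun n => Nat.rec ⟨Z, hZ⟩ (fun i m => ⟨kernel (p i m.1 m.2), hS i m.1 m.2⟩) n
  let X : ℕ → C := fun n => Q n (M n).1 (M n).2
  let q : ∀ n, X n ⟶ (M n).1 := fun n => p n (M n).1 (M n).2
  haveI hq : ∀ n, Epi (q n) := fun n => hp _ _ _
  let ι : ∀ n, (M (n + 1)).1 ⟶ X n := fun n => kernel.ι (q n)
  have hι : ∀ n, ι n ≫ q n = 0 := fun n => kernel.condition _
  haveI : ∀ n, Mono (ι n) := fun n => inferInstanceAs (Mono (kernel.ι _))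
  let d : ∀ n, X (n + 1) ⟶ X n := fun n => q (n + 1) ≫ ι n
  have hd : ∀ n, d (n + 1) ≫ d n = 0 := fun n => by
    show (q (n + 1 + 1) ≫ ι (n + 1)) ≫ q (n + 1) ≫ ι n = 0
    rw [Category.assoc, reassoc_of% (hι (n + 1)), zero_comp, comp_zero]
  have hex : ∀ n, (ShortComplex.mk (d n) (q n) (by simp [d, hι])).Exact := fun n => by
    let T := ShortComplex.mk (ι n) (q n) (hι n)
    have hT : T.Exact := ShortComplex.exact_of_f_is_kernel _ (kernelIsKernel _)
    let φ : ShortComplex.mk (d n) (q n) (by simp [d, hι]) ⟶ T :=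
      { τ₁ := q (n + 1), τ₂ := 𝟙 _, τ₃ := 𝟙 _ }
    exact (ShortComplex.exact_iff_of_epi_of_isIso_of_mono φ).2 hT
  let K := ChainComplex.of X d hd
  have hKd : ∀ n, K.d (n + 1) n = d n := fun n => by simp only [K, ChainComplex.of, ChainComplex.of_d]
  refine ⟨K, (ChainComplex.toSingle₀Equiv K Z).symm ⟨q 0, ?_⟩, ⟨fun n => ?_⟩, fun n => hP _ _ _⟩
  · show K.d 1 0 ≫ q 0 = 0
    rw [show K.d 1 0 = d 0 from hKd 0]
    simp [d, hι]
  rcases n with _ | n
  · rw [ChainComplex.quasiIsoAt₀_iff, ShortComplex.quasiIso_iff_of_zeros']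
    · dsimp
      refine (ShortComplex.exact_and_epi_g_iff_of_iso ?_).2 ⟨hex 0, hq 0⟩
      exact ShortComplex.isoMk (Iso.refl _) (Iso.refl _) (Iso.refl _) (by simpa using (hKd 0).symm) (by simp)
    all_goals rfl
  · rw [quasiIsoAt_iff_exactAt']
    · rw [HomologicalComplex.exactAt_iff' _ (n + 1 + 1) (n + 1) n (by simp) (by simp)]
      let φ : ShortComplex.mk (d (n + 1)) (q (n + 1)) (by simp [d, hι]) ⟶
          ShortComplex.mk (d (n + 1)) (d n) (hd n) := { τ₁ := 𝟙 _, τ₂ := 𝟙 _, τ₃ := ι n }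
      have h2 := (ShortComplex.exact_iff_of_epi_of_isIso_of_mono φ).1 (hex (n + 1))
      exact ShortComplex.exact_of_iso (S₁ := ShortComplex.mk (d (n + 1)) (d n) (hd n))
        (ShortComplex.isoMk (Iso.refl _) (Iso.refl _) (Iso.refl _)
          (by simpa using (hKd (n + 1))) (by simpa using (hKd n))) h2
    · apply ChainComplex.exactAt_succ_single_obj

end Abstract

open Groth.L00.Tensor (tensorIso tensorAssoc tensorComm tensorUnitRight tensorRightF)
open Groth.L22.Reg
open Groth.L17 (toAbShF)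

variable {n : ℕ} {T : Scheme.{u}}

theorem vt_iso {q : ℕ} {d : ℤ} {A B : (KRR.PY n T).Modules} (e : A ≅ B) (h : VT q d A) : VT q d B :=
  (isVan_vpush _).iso (tensorIso e (Iso.refl _)) q h

theorem isZero_pushAb_iff {M : (KRR.PY n T).Modules} :
    VPush (KRR.pr n T) 0 M ↔ IsZero ((Scheme.Modules.pushforward (KRR.pr n T)).obj M) := by
  haveI : PreservesFiniteLimits (Coh.pushAb (KRR.pr n T)) :=
    inferInstanceAs (PreservesFiniteLimits (TopCat.Sheaf.pushforward AddCommGrpCat.{u} (KRR.pr n T).base))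
  let e : (Coh.RpushAb (KRR.pr n T) 0).obj (Coh.toAb M) ≅
      (toAbShF T).obj ((Scheme.Modules.pushforward (KRR.pr n T)).obj M) :=
    (Coh.pushAb (KRR.pr n T)).rightDerivedZeroIsoSelf.app (Coh.toAb M)
  refine ⟨fun h => ?_, fun h => IsZero.of_iso ((toAbShF T).map_isZero h) e⟩
  have h' : IsZero ((toAbShF T).obj ((Scheme.Modules.pushforward (KRR.pr n T)).obj M)) := IsZero.of_iso h e.symm
  rw [IsZero.iff_id_eq_zero]
  haveI : (toAbShF T).Faithful := inferInstanceAs (SheafOfModules.toSheaf _).Faithful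
  exact (toAbShF T).map_injective (h'.eq_of_src _ _)

/-- The conditions on the successive kernels. -/
def Cond (i : ℕ) (Z : (KRR.PY n T).Modules) : Prop :=
  Coh.IsQCoh Z ∧ KRR.IsRegSheaf n T (KRR.twF n T (i : ℤ) Z) ∧ ∀ q, q < i → VT q ((i : ℤ) - q - 1) Z

theorem cond_zero {F : (KRR.PY n T).Modules} (hF : Coh.IsQCoh F) (h : KRR.IsRegSheaf n T F) : Cond 0 F :=
  ⟨hF, isRegSheaf_iff.2 fun q hq =>
    (vt_twF (show ((0 : ℕ) : ℤ) + -(q : ℤ) = -(q : ℤ) by simp)).2 (isRegSheaf_iff.1 h q hq),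
    fun _ hq => absurd hq (Nat.not_lt_zero _)⟩

theorem cond_of_isZero {Z : (KRR.PY n T).Modules} (h : IsZero Z) (i : ℕ) : Cond i Z := by
  have hv : ∀ q d, VT q d Z := fun q d => (isVan_vpush _).zero ((tensorRightF _).map_isZero h) q
  exact ⟨Groth.L29.DC.isQCoh_of_isZero h, isRegSheaf_iff.2 fun q _ => (vt_twF rfl).2 (hv _ _), fun q _ => hv _ _⟩

theorem isQCoh_twist {M : (KRR.PY n T).Modules} (hM : Coh.IsQCoh M) (d : ℤ) :
    Coh.IsQCoh (CohB1.tensorMod M (Twist.twistOver n T d)) :=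
  haveI := hM
  haveI := Groth.L21.Extend.isQCoh_of_isInvertible (Groth.L17.Strat.isInvertible_twistOver n T d)
  Groth.L00.Tensor.isQCoh_tensorMod M _

/-- The twists compose. -/
theorem nonempty_tw_tw {a b : ℤ} (h : a + b = 0) (M : (KRR.PY n T).Modules) :
    Nonempty (CohB1.tensorMod (CohB1.tensorMod M (Twist.twistOver n T a)) (Twist.twistOver n T b) ≅ M) := by
  obtain ⟨t⟩ := nonempty_OT_add n T h
  obtain ⟨z⟩ := nonempty_OT_zero n T
  exact ⟨tensorAssoc _ _ _ ≪≫ tensorIso (Iso.refl _) (t ≪≫ z) ≪≫ tensorUnitRight M⟩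

theorem nonempty_twF_iso' (d : ℤ) (M : (KRR.PY n T).Modules) :
    Nonempty (KRR.twF n T d M ≅ CohB1.tensorMod M (Twist.twistOver n T d)) := by
  obtain ⟨e⟩ := nonempty_twF_iso n T d M
  exact ⟨e ≪≫ tensorComm _ _⟩

theorem vt_tensor {q : ℕ} {a d c : ℤ} (h : a + d = c) {M : (KRR.PY n T).Modules} :
    VT q d (CohB1.tensorMod M (Twist.twistOver n T a)) ↔ VT q c M := by
  obtain ⟨e⟩ := nonempty_twF_iso' a M
  exact ⟨fun hh => (vt_twF h).1 (vt_iso e.symm hh), fun hh => vt_iso e ((vt_twF h).2 hh)⟩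

theorem isRegSheaf_tensor {i : ℕ} {Z : (KRR.PY n T).Modules} (h : Cond i Z) :
    KRR.IsRegSheaf n T (CohB1.tensorMod Z (Twist.twistOver n T (i : ℤ))) := by
  obtain ⟨e⟩ := nonempty_twF_iso' (i : ℤ) Z
  exact isRegSheaf_iff.2 fun q hq => vt_iso e (isRegSheaf_iff.1 h.2.1 q hq)

/-- Beyond degree `n` nothing is left. -/
theorem isZero_of_cond {i : ℕ} (hi : n < i) {Z : (KRR.PY n T).Modules} (h : Cond i Z) : IsZero Z := by
  let M := CohB1.tensorMod Z (Twist.twistOver n T (i : ℤ))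
  haveI : Coh.IsQCoh M := isQCoh_twist h.1 _
  have hv : ∀ q : ℕ, VT q (-((q + 1 : ℕ) : ℤ)) M := fun q => by
    rcases lt_or_ge q i with hq | hq
    · exact (vt_tensor (show (i : ℤ) + -((q + 1 : ℕ) : ℤ) = (i : ℤ) - q - 1 by omega)).2 (h.2.2 q hq)
    · exact vt_gt (by omega) _
  have h0 : VPush (KRR.pr n T) 0 M :=
    (isVan_vpush _).van_of_twists (Groth.L17.Strat.isInvertible_twistOver n T (-1)) (generates_sigmasT n T) fun j => by
      obtain ⟨p⟩ := nonempty_OT_pow n T (j + 1)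
      rw [Nat.zero_add]
      exact (isVan_vpush _).iso (tensorIso (Iso.refl M) p).symm _ (hv j)
  haveI := epi_counit (isRegSheaf_tensor h)
  have hM : IsZero M := IsZero.of_epi
    ((Scheme.Modules.pullbackPushforwardAdjunction (KRR.pr n T)).counit.app M)
    ((Scheme.Modules.pullback (KRR.pr n T)).map_isZero (isZero_pushAb_iff.1 h0))
  obtain ⟨e⟩ := nonempty_tw_tw (show (i : ℤ) + -(i : ℤ) = 0 by omega) Z
  exact IsZero.of_iso ((tensorRightF (Twist.twistOver n T (-(i : ℤ)))).map_isZero hM) e.symm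

/-- The kernel of the counit is killed by direct images. -/
theorem isZero_push_kernel_counit (M : (KRR.PY n T).Modules) [Coh.IsQCoh ((Scheme.Modules.pushforward (KRR.pr n T)).obj M)] :
    IsZero ((Scheme.Modules.pushforward (KRR.pr n T)).obj
      (kernel ((Scheme.Modules.pullbackPushforwardAdjunction (KRR.pr n T)).counit.app M))) := by
  let adj := Scheme.Modules.pullbackPushforwardAdjunction (KRR.pr n T)
  haveI := isIso_unit (n := n) ((Scheme.Modules.pushforward (KRR.pr n T)).obj M)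
  haveI : IsIso ((Scheme.Modules.pushforward (KRR.pr n T)).map (adj.counit.app M)) :=
    IsIso.of_isIso_fac_left (adj.right_triangle_components M)
  haveI : PreservesLimitsOfSize.{0, 0} (Scheme.Modules.pushforward (KRR.pr n T)) :=
    adj.rightAdjoint_preservesLimits
  haveI : (Scheme.Modules.pushforward (KRR.pr n T)).PreservesZeroMorphisms := inferInstance
  refine IsZero.of_mono_eq_zero ((Scheme.Modules.pushforward (KRR.pr n T)).map (kernel.ι (adj.counit.app M))) ?_
  rw [← cancel_mono ((Scheme.Modules.pushforward (KRR.pr n T)).map (adj.counit.app M)), zero_comp,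
    ← Functor.map_comp, kernel.condition, Functor.map_zero]

/-- One step of the resolution. -/
theorem exists_step {i : ℕ} (hi : i ≤ n) {Z : (KRR.PY n T).Modules} (h : Cond i Z) :
    ∃ (G : T.Modules) (p : CohB1.tensorMod ((Scheme.Modules.pullback (KRR.pr n T)).obj G)
        (Twist.twistOver n T (-(i : ℤ))) ⟶ Z),
      Coh.IsQCoh G ∧ Epi p ∧ Cond (i + 1) (kernel p) := by
  let M := CohB1.tensorMod Z (Twist.twistOver n T (i : ℤ))
  haveI : Coh.IsQCoh M := isQCoh_twist h.1 _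
  haveI : IsProper (KRR.pr n T) := Groth.L16.ProjSpace.isProper_toBase n T
  let G := (Scheme.Modules.pushforward (KRR.pr n T)).obj M
  haveI hG : Coh.IsQCoh G := Groth.L16.QcqsPush.isQCoh_push _ (KRR.pr n T)
  let ε := (Scheme.Modules.pullbackPushforwardAdjunction (KRR.pr n T)).counit.app M
  have hreg := isRegSheaf_tensor h
  haveI hε : Epi ε := epi_counit hreg
  have hS : (ShortComplex.mk (kernel.ι ε) ε (kernel.condition ε)).ShortExact :=
    { exact := ShortComplex.exact_kernel ε, epi_g := hε }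
  have hP : Coh.IsQCoh ((Scheme.Modules.pullback (KRR.pr n T)).obj G) := Groth.L16.AffineBC.isQCoh_pullback _ G
  have hM : Coh.IsQCoh M := inferInstance
  have hK : Coh.IsQCoh (kernel ε) := Groth.L29.DC.isQCoh_kernel' ε hP hM
  have hK1 : KRR.IsRegSheaf n T (KRR.twF n T 1 (kernel ε)) := by
    refine regular_left (S := ShortComplex.mk (kernel.ι ε) ε (kernel.condition ε)) hS ?_ hreg ?_
    · refine isRegSheaf_iff.2 fun q hq => (vt_twF (show 1 + -(q : ℤ) = 1 - q by ring)).2 ?_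
      rcases le_or_gt q (n + 1) with hq' | hq'
      · exact vt_pullback hq (by omega)
      · exact @vt_gt _ _ _ hP _ (by omega) _
    · exact (IsSplitEpi.mk' ⟨(Scheme.Modules.pullbackPushforwardAdjunction (KRR.pr n T)).unit.app _,
        (Scheme.Modules.pullbackPushforwardAdjunction (KRR.pr n T)).right_triangle_components M⟩).epi
  have hKv : ∀ q, q ≤ i → VT q (-(q : ℤ)) (kernel ε) := fun q hq => by
    rcases q with _ | j
    · simpa using vt_zero_iff.2 (isZero_pushAb_iff.2 (isZero_push_kernel_counit M))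
    · refine vpush_left (KRR.pr n T) (shortExact_twistT hS (-((j + 1 : ℕ) : ℤ))) j
        (vt_pullback (by omega) (by omega)) (IsZero.epi ?_ _)
      exact (vt_tensor (show (i : ℤ) + -((j + 1 : ℕ) : ℤ) = (i : ℤ) - j - 1 by omega)).2 (h.2.2 j (by omega))
  obtain ⟨e⟩ := nonempty_tw_tw (show (i : ℤ) + -(i : ℤ) = 0 by omega) Z
  have hS' := shortExact_twistT hS (-(i : ℤ))
  let g := (tensorRightF (Twist.twistOver n T (-(i : ℤ)))).map ε
  haveI : Epi g := hS'.epi_g
  refine ⟨G, g ≫ e.hom, hG, inferInstance, ?_⟩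
  let k : kernel (g ≫ e.hom) ≅ CohB1.tensorMod (kernel ε) (Twist.twistOver n T (-(i : ℤ))) :=
    kernelCompMono g e.hom ≪≫ (kernelIsKernel g).conePointUniqueUpToIso hS'.fIsKernel
  refine ⟨?_, isRegSheaf_iff.2 fun q hq => ?_, fun q hq => ?_⟩
  · haveI := isQCoh_twist hK (-(i : ℤ))
    exact Groth.L29.DC.isQCoh_kernel' _ (isQCoh_twist hP _) h.1
  · refine (vt_twF rfl).2 (vt_iso k.symm ((vt_tensor rfl).2 ?_))
    have := (vt_twF (show (1 : ℤ) + -(q : ℤ) = -(i : ℤ) + (((i + 1 : ℕ) : ℤ) + -(q : ℤ)) by omega)).1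
      (isRegSheaf_iff.1 hK1 q hq)
    exact this
  · exact vt_iso k.symm ((vt_tensor (show -(i : ℤ) + (((i + 1 : ℕ) : ℤ) - q - 1) = -(q : ℤ) by omega)).2
      (hKv q (by omega)))

/-- The resolution of a regular module. -/
theorem exists_resolution (F : (KRR.PY n T).Modules) (hF : Coh.IsQCoh F) (hreg : KRR.IsRegSheaf n T F) :
    ∃ (Tm : ℕ → T.Modules) (L : ChainComplex (KRR.PY n T).Modules ℕ)
      (π : L ⟶ (ChainComplex.single₀ (KRR.PY n T).Modules).obj F),
      (∀ i, Coh.IsQCoh (Tm i)) ∧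
      (∀ i, i ≤ n → Nonempty (L.X i ≅
        KRR.twF n T (-(i : ℤ)) ((Scheme.Modules.pullback (KRR.pr n T)).obj (Tm i)))) ∧
      (∀ i, n < i → IsZero (L.X i)) ∧ QuasiIso π := by
  obtain ⟨L, π, hπ, hL⟩ := exists_res
    (fun i Q => ∃ G : T.Modules, Coh.IsQCoh G ∧ (i ≤ n → Nonempty (Q ≅
        KRR.twF n T (-(i : ℤ)) ((Scheme.Modules.pullback (KRR.pr n T)).obj G))) ∧ (n < i → IsZero Q))
    (fun i Z => Cond i Z) (fun i Z h => step' i Z h) F (cond_zero hF hreg)
  choose Tm hT1 hT2 hT3 using hL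
  exact ⟨Tm, L, π, hT1, hT2, hT3, hπ⟩
where
  step' (i : ℕ) (Z : (KRR.PY n T).Modules) (h : Cond i Z) :
      ∃ (Q : (KRR.PY n T).Modules) (p : Q ⟶ Z), (∃ G : T.Modules, Coh.IsQCoh G ∧ (i ≤ n → Nonempty (Q ≅
        KRR.twF n T (-(i : ℤ)) ((Scheme.Modules.pullback (KRR.pr n T)).obj G))) ∧ (n < i → IsZero Q)) ∧
        Epi p ∧ Cond (i + 1) (kernel p) := by
    rcases le_or_gt i n with hi | hi
    · obtain ⟨G, p, hG, hp, hc⟩ := exists_step hi h
      obtain ⟨e⟩ := nonempty_twF_iso' (-(i : ℤ)) ((Scheme.Modules.pullback (KRR.pr n T)).obj G)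
      exact ⟨_, p, ⟨G, hG, fun _ => ⟨e.symm⟩, fun h' => absurd h' (by omega)⟩, hp, hc⟩
    · have hz := isZero_of_cond hi h
      exact ⟨Z, 𝟙 Z, ⟨(Scheme.Modules.pushforward (KRR.pr n T)).obj (Coh.structureModule _), by
          haveI : IsProper (KRR.pr n T) := Groth.L16.ProjSpace.isProper_toBase n T
          haveI : Coh.IsQCoh (Coh.structureModule (KRR.PY n T)) := Groth.L19.Conormal.isQCoh_structureModule _
          exact Groth.L16.QcqsPush.isQCoh_push _ (KRR.pr n T), fun h' => absurd h' (by omega), fun _ => hz⟩,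
        inferInstance, cond_of_isZero (isZero_kernel_of_mono _) _⟩

end Groth.L04.RegRes
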