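import Groth.Agent.L04.RegRes.Vanish
import Groth.Agent.L07.ParaF.FlatDescent
import Groth.Agent.L12.PushFree.ProjUnit
import Groth.Agent.L18.IsoCover

/-!
The unit `G ⟶ p_* p^* G` on `ℙⁿ_T` is an isomorphism for quasi-coherent `G`.
-/

set_option autoImplicit false
set_option backward.isDefEq.respectTransparency false
set_option backward.isDefEq.respectTransparency.types false
set_option linter.style.haveILetI false
universe u

open CategoryTheory CategoryTheory.Limits AlgebraicGeometry TopologicalSpace Opposite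
open AlgebraicGeometry.Scheme.Modules (pushforward pullbackPushforwardAdjunction restrictFunctor restrictFunctorIsoPullback)

noncomputable section

namespace Groth.L04.RegRes

theorem isIso_app_of_retract {C D : Type*} [Category C] [Category D] {F G : C ⥤ D} (τ : F ⟶ G) {M N : C}
    (i : M ⟶ N) (p : N ⟶ M) (h : i ≫ p = 𝟙 M) [IsIso (τ.app N)] : IsIso (τ.app M) := by
  refine ⟨G.map i ≫ inv (τ.app N) ≫ F.map p, ?_, ?_⟩
  · rw [← τ.naturality_assoc, IsIso.hom_inv_id_assoc, ← F.map_comp, h, F.map_id]
  · simp only [Category.assoc, τ.naturality]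
    rw [IsIso.inv_hom_id_assoc, ← G.map_comp, h, G.map_id]

variable (n : ℕ)

/-- The unit at the direct image of the structure sheaf along an affine morphism. -/
theorem isIso_unit_push {S' S : Scheme.{u}} (s : S' ⟶ S) [IsAffineHom s] :
    IsIso ((pullbackPushforwardAdjunction (KRR.pr n S)).unit.app ((pushforward s).obj (Coh.structureModule S'))) := by
  haveI : Coh.IsQCoh (Coh.structureModule S') := Groth.L19.Conormal.isQCoh_structureModule _
  have hsq := (Groth.L12.PushFree.isPullback_projSpaceMap n s).flip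
  haveI hθ : IsIso (CohBC.bc0 s (KRR.pr n S) (KRR.projSpaceMap n s) (KRR.pr n S') hsq.w (Coh.structureModule S')) :=
    Groth.Agent.S12131.result s (KRR.pr n S) (KRR.pr n S') (KRR.projSpaceMap n s) hsq (Coh.structureModule S')
  haveI := Groth.L20.DescLocus.isIso_unit_structure (KRR.pr n S') (Groth.L12.PushFree.isIso_pr_app n S')
  haveI : IsIso (CohBC.bc0Adj s (KRR.pr n S) (KRR.projSpaceMap n s) (KRR.pr n S') hsq.w (Coh.structureModule S')) := by
    unfold CohBC.bc0Adj
    infer_instance
  have h : (pullbackPushforwardAdjunction (KRR.pr n S)).unit.app _ ≫ (pushforward (KRR.pr n S)).map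
      (CohBC.bc0 s (KRR.pr n S) (KRR.projSpaceMap n s) (KRR.pr n S') hsq.w (Coh.structureModule S')) =
      CohBC.bc0Adj s (KRR.pr n S) (KRR.projSpaceMap n s) (KRR.pr n S') hsq.w (Coh.structureModule S') := by
    exact ((pullbackPushforwardAdjunction (KRR.pr n S)).homEquiv_unit _ _ _).symm.trans (Equiv.apply_symm_apply _ _)
  exact IsIso.of_isIso_fac_right h

/-- The unit over an affine base. -/
theorem isIso_unit_affine (A : CommRingCat.{u}) (M : (Spec A).Modules) [Coh.IsQCoh M] :
    IsIso ((pullbackPushforwardAdjunction (KRR.pr n (Spec A))).unit.app M) := by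
  obtain ⟨R, φ, i, p, hip⟩ := Groth.L29.TwistNeg.exists_retract A M
  haveI := isIso_unit_push n (Spec.map φ)
  exact isIso_app_of_retract _ i p hip

variable {n}

/-- The unit is an isomorphism at quasi-coherent modules. -/
theorem isIso_unit {T : Scheme.{u}} (G : T.Modules) [Coh.IsQCoh G] :
    IsIso ((pullbackPushforwardAdjunction (KRR.pr n T)).unit.app G) := by
  let η := (pullbackPushforwardAdjunction (KRR.pr n T)).unit.app G
  refine Groth.L18.IsoCover.isIso_of_bijective η (fun W : {W : T.Opens // IsAffineOpen W} => W.1) (fun x => ?_)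
    fun W V hV => ?_
  · obtain ⟨_, ⟨W, hW, rfl⟩, hx, -⟩ := T.isBasis_affineOpens.exists_subset_of_mem_open (Set.mem_univ x) isOpen_univ
    exact ⟨⟨W, hW⟩, hx⟩
  · let b : Spec Γ(T, W.1) ⟶ T := W.2.fromSpec
    haveI : IsOpenImmersion b := inferInstanceAs (IsOpenImmersion W.2.fromSpec)
    have hsq := Groth.L12.PushFree.isPullback_projSpaceMap n b
    haveI : Coh.IsQCoh ((Scheme.Modules.pullback b).obj G) := Groth.L16.AffineBC.isQCoh_pullback b G
    haveI := isIso_unit_affine n Γ(T, W.1) ((Scheme.Modules.pullback b).obj G)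
    haveI : IsProper (KRR.pr n T) := Groth.L16.ProjSpace.isProper_toBase n T
    haveI : Coh.IsQCoh ((Scheme.Modules.pullback (KRR.pr n T)).obj G) := Groth.L16.AffineBC.isQCoh_pullback _ G
    haveI := Groth.L07.ParaF.isIso_bc0_of_qs hsq ((Scheme.Modules.pullback (KRR.pr n T)).obj G)
    haveI : IsIso ((Scheme.Modules.pullback b).map η) :=
      IsIso.of_isIso_fac_right (Groth.L20.DescLocus.unit_bc0 (KRR.pr n T) b (KRR.pr n (Spec Γ(T, W.1)))
        (KRR.projSpaceMap n b) hsq.w G)
    haveI : IsIso ((restrictFunctor b).map η) :=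
      (NatIso.isIso_map_iff (restrictFunctorIsoPullback b) η).2 inferInstance
    have hV' : b ''ᵁ (b ⁻¹ᵁ V) = V := by
      rw [Scheme.Hom.image_preimage_eq_opensRange_inf]
      exact inf_eq_right.2 (hV.trans_eq W.2.opensRange_fromSpec.symm)
    rw [← hV']
    exact ConcreteCategory.bijective_of_isIso (((restrictFunctor b).map η).app (b ⁻¹ᵁ V))

end Groth.L04.RegRes
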