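import Groth.Agent.L29.Twist.NegVanish
import Groth.Agent.L22.Reg.PullVan

/-!
Higher direct images of twisted pullbacks from an arbitrary base to `ℙⁿ_T`.
-/

set_option autoImplicit false
set_option backward.isDefEq.respectTransparency false
set_option backward.isDefEq.respectTransparency.types false
set_option linter.style.haveILetI false
universe u

open CategoryTheory CategoryTheory.Limits AlgebraicGeometry TopologicalSpace Opposite

noncomputable section

namespace Groth.L04.RegRes

open Groth.L22.Reg (VT VPush vpush_of_affines nonempty_HU_affine)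
open Groth.L16 (ProjSpace.subsingleton_HH_twist ProjSpace.subsingleton_HH_of_lt)

variable (n : ℕ)

theorem subsingleton_HH_twistOver_spec (R : Type u) [CommRing R] (d : ℤ) (q : ℕ) (hq : 1 ≤ q) (hd : -(n : ℤ) ≤ d) :
    Subsingleton (Coh.HH (CohB1.ProjSpaceOver n (Spec (CommRingCat.of R))) (Twist.twistOver n _ d) q) := by
  obtain ⟨e⟩ := Groth.L16.ProjSpace.nonempty_HU_twistOver n (isAffineOpen_top (Spec (CommRingCat.of R))) d q
  haveI : Subsingleton (Coh.HH (CohB1.ProjSpace n Γ(Spec (CommRingCat.of R), ⊤))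
      (Twist.twistProjSpace n Γ(Spec (CommRingCat.of R), ⊤) d) q) :=
    Groth.L16.ProjSpace.subsingleton_HH_twist n _ d q (by omega) (by omega)
  have hu := e.toEquiv.subsingleton
  rw [show (CohB1.ProjSpaceOver.toBase n (Spec (CommRingCat.of R))) ⁻¹ᵁ ⊤ = ⊤ from rfl] at hu
  haveI := hu
  exact ((Groth.L17.hTopEquiv (X := (CohB1.ProjSpaceOver n (Spec (CommRingCat.of R))).toTopCat) _ q)).toEquiv.subsingleton

theorem subsingleton_HH_pullback_twist (A : CommRingCat.{u}) (M : (Spec A).Modules) [Coh.IsQCoh M] (d : ℤ) (q : ℕ)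
    (hq : 1 ≤ q) (hd : -(n : ℤ) ≤ d) :
    Subsingleton (Coh.HH (CohB1.ProjSpaceOver n (Spec A))
      (CohB1.tensorMod ((Scheme.Modules.pullback (CohB1.ProjSpaceOver.toBase n (Spec A))).obj M)
        (Twist.twistOver n (Spec A) d)) q) := by
  obtain ⟨R, φ, i, p, hip⟩ := Groth.L29.TwistNeg.exists_retract A M
  obtain ⟨ψ⟩ := Groth.L29.TwistNeg.nonempty_push_twist n (Spec.map φ) d
  haveI : IsAffineHom (KRR.projSpaceMap n (Spec.map φ)) :=
    MorphismProperty.of_isPullback (Groth.L12.PushFree.isPullback_projSpaceMap n (Spec.map φ)).flip inferInstance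
  haveI : Coh.IsQCoh (Twist.twistOver n (Spec R) d) :=
    Groth.L29.DC.PCQCoh.isQCoh_of_isFinLocFree (Groth.L12.KReg.isFinLocFree_O d)
  haveI h1 : Subsingleton (Coh.HH _ (Twist.twistOver n (Spec R) d) q) := subsingleton_HH_twistOver_spec n R d q hq hd
  obtain ⟨ep⟩ := Groth.L17.nonempty_HH_push_of_isAffineHom (KRR.projSpaceMap n (Spec.map φ)) (Twist.twistOver n (Spec R) d) q
  haveI h3 := ep.symm.toEquiv.subsingleton
  haveI h4 := (Groth.L17.BC.HHequiv ψ q).toEquiv.subsingleton
  refine Groth.L29.TwistNeg.subsingleton_HH_of_retract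
    (Groth.L00.Tensor.tensorMap ((Scheme.Modules.pullback _).map i) (𝟙 _))
    (Groth.L00.Tensor.tensorMap ((Scheme.Modules.pullback _).map p) (𝟙 _)) ?_ q
  rw [← Groth.L00.Tensor.tensorMap_comp, ← Functor.map_comp, hip, CategoryTheory.Functor.map_id, Category.comp_id]
  exact Groth.L00.Tensor.tensorMap_id _ _

variable {n} {T : Scheme.{u}}

/-- Pullbacks of quasi-coherent modules from the base have no higher twisted direct images in degrees `d ≥ -n`. -/
theorem vt_pullback {G : T.Modules} [Coh.IsQCoh G] {q : ℕ} (hq : 1 ≤ q) {d : ℤ} (hd : -(n : ℤ) ≤ d) :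
    VT q d ((Scheme.Modules.pullback (KRR.pr n T)).obj G) := by
  refine vpush_of_affines _ q fun W hW => ?_
  let F := CohB1.tensorMod ((Scheme.Modules.pullback (CohB1.ProjSpaceOver.toBase n T)).obj G) (Twist.twistOver n T d)
  let b : Spec Γ(T, W) ⟶ T := hW.fromSpec
  let j := KRR.projSpaceMap n b
  have hsq := Groth.L12.PushFree.isPullback_projSpaceMap n b
  haveI : IsOpenImmersion b := inferInstanceAs (IsOpenImmersion hW.fromSpec)
  haveI : IsOpenImmersion j := MorphismProperty.of_isPullback hsq.flip inferInstance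
  have hrange : j.opensRange = (CohB1.ProjSpaceOver.toBase n T) ⁻¹ᵁ W := by
    refine Opens.ext ?_
    show Set.range (KRR.projSpaceMap n b) = (CohB1.ProjSpaceOver.toBase n T) ⁻¹' (W : Set T)
    rw [← hW.range_fromSpec]
    rw [← hsq.isoPullback_hom_fst, Scheme.Hom.comp_base, TopCat.coe_comp, Set.range_comp,
      Set.range_eq_univ.2 hsq.isoPullback.hom.surjective, Set.image_univ]
    exact Scheme.Pullback.range_fst _ _
  obtain ⟨e'⟩ := Groth.L17.nonempty_hu_image j (⊤ : (CohB1.ProjSpaceOver n (Spec Γ(T, W))).Opens) (Coh.toAb F) q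
  rw [Scheme.Hom.image_top_eq_opensRange, hrange] at e'
  obtain ⟨tw⟩ := Groth.L12.PushFree.nonempty_pullback_twistOver n b d
  haveI : Coh.IsQCoh ((Scheme.Modules.pullback b).obj G) := Groth.L16.AffineBC.isQCoh_pullback b G
  let i : F.restrict j ≅ CohB1.tensorMod
      ((Scheme.Modules.pullback (CohB1.ProjSpaceOver.toBase n (Spec Γ(T, W)))).obj ((Scheme.Modules.pullback b).obj G))
      (Twist.twistOver n (Spec Γ(T, W)) d) :=
    (Scheme.Modules.restrictFunctorIsoPullback j).app F ≪≫ (Groth.L29.DC.PullTensor.pullTensor j _ _).symm ≪≫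
      Groth.L00.Tensor.tensorIso ((Scheme.Modules.pullbackComp j _).app G ≪≫
        (Scheme.Modules.pullbackCongr hsq.w).app G ≪≫ ((Scheme.Modules.pullbackComp _ b).app G).symm) tw
  haveI := subsingleton_HH_pullback_twist n Γ(T, W) ((Scheme.Modules.pullback b).obj G) d q hq hd
  exact (e'.trans ((Groth.L17.hTopEquiv (X := (CohB1.ProjSpaceOver n (Spec Γ(T, W))).toTopCat) _ q).symm.trans
    (Groth.L17.BC.HHequiv i q).toAddEquiv)).toEquiv.subsingleton

/-- Quasi-coherent modules on `ℙⁿ_T` have no twisted direct images above degree `n`. -/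
theorem vt_gt {M : (KRR.PY n T).Modules} [Coh.IsQCoh M] {q : ℕ} (hq : n < q) (d : ℤ) : VT q d M := by
  haveI := Groth.L21.Extend.isQCoh_of_isInvertible (Groth.L17.Strat.isInvertible_twistOver n T d)
  haveI := Groth.L00.Tensor.isQCoh_tensorMod M (Twist.twistOver n T d)
  refine vpush_of_affines _ q fun W hW => ?_
  obtain ⟨φ⟩ := nonempty_HU_affine (CohB1.tensorMod M (Twist.twistOver n T d)) hW q
  haveI := Groth.L16.AffineBC.isQCoh_pullback (Groth.L20.PnPic.toPt n hW.fromSpec)
    (CohB1.tensorMod M (Twist.twistOver n T d))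
  exact φ.toEquiv.subsingleton_congr.2 (Groth.L16.ProjSpace.subsingleton_HH_of_lt n Γ(T, W) _ q hq)

end Groth.L04.RegRes
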